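import Cfsg.Agent.Lib.PlusType.Criterion

/-!
Gram matrices of tensor products of bilinear forms.
-/

set_option autoImplicit false
set_option linter.unusedSectionVars false

namespace Cfsg.Agent.Lib.PlusType

open Matrix Kronecker TensorProduct

variable {F U W : Type*} [Field F] [AddCommGroup U] [Module F U] [FiniteDimensional F U]
  [AddCommGroup W] [Module F W] [FiniteDimensional F W]
  {B₁ : LinearMap.BilinForm F U} {B₂ : LinearMap.BilinForm F W}
  {κ τ : Type*} [Fintype κ] [DecidableEq κ] [Fintype τ] [DecidableEq τ]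

theorem gram_tmul (b : Module.Basis κ F U) (c : Module.Basis τ F W) :
    LinearMap.BilinForm.toMatrix (b.tensorProduct c) (B₁.tmul B₂) =
      LinearMap.BilinForm.toMatrix b B₁ ⊗ₖ LinearMap.BilinForm.toMatrix c B₂ := by
  refine Matrix.ext fun i j => ?_
  rw [LinearMap.BilinForm.toMatrix_apply, Module.Basis.tensorProduct_apply', Module.Basis.tensorProduct_apply',
    LinearMap.BilinForm.tensorDistrib_tmul, Matrix.kroneckerMap_apply, LinearMap.BilinForm.toMatrix_apply,
    LinearMap.BilinForm.toMatrix_apply, smul_eq_mul, mul_comm]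

theorem det_gram_tmul (b : Module.Basis κ F U) (c : Module.Basis τ F W) :
    (LinearMap.BilinForm.toMatrix (b.tensorProduct c) (B₁.tmul B₂)).det =
      (LinearMap.BilinForm.toMatrix b B₁).det ^ Fintype.card τ *
        (LinearMap.BilinForm.toMatrix c B₂).det ^ Fintype.card κ := by
  rw [gram_tmul, Matrix.det_kronecker]

theorem det_gram_ne_zero (h : B₁.Nondegenerate) (b : Module.Basis κ F U) :
    (LinearMap.BilinForm.toMatrix b B₁).det ≠ 0 :=
  (LinearMap.BilinForm.nondegenerate_iff_det_ne_zero b).1 h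

theorem tmul_nondegenerate (h₁ : B₁.Nondegenerate) (h₂ : B₂.Nondegenerate) :
    LinearMap.BilinForm.Nondegenerate (B₁.tmul B₂) := by
  classical
  let b := Module.finBasis F U
  let c := Module.finBasis F W
  refine (LinearMap.BilinForm.nondegenerate_iff_det_ne_zero (b.tensorProduct c)).2 ?_
  rw [det_gram_tmul]
  exact mul_ne_zero (pow_ne_zero _ (det_gram_ne_zero h₁ b)) (pow_ne_zero _ (det_gram_ne_zero h₂ c))

theorem tmul_symm (h₁ : ∀ x y, B₁ x y = B₁ y x) (h₂ : ∀ x y, B₂ x y = B₂ y x) (x y : U ⊗[F] W) :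
    B₁.tmul B₂ x y = B₁.tmul B₂ y x := by
  have : (B₁.tmul B₂) = (B₁.tmul B₂).flip := by
    refine TensorProduct.ext' fun u w => ?_
    refine TensorProduct.ext' fun u' w' => ?_
    simp [h₁ u u', h₂ w w']
  exact LinearMap.congr_fun (LinearMap.congr_fun this x) y

end Cfsg.Agent.Lib.PlusType
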